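import Cfsg.Agent.Lib.KnownB.Mult.Main

/-!
Certificate at `2` for the multiplier of the Held group (generated data).
-/

set_option autoImplicit false
set_option maxRecDepth 100000

namespace CfsgLib.KnownB.Mult.He

/-- generator words -/
def sig2 : List (List ℕ) :=
  [[3, 2, 3, 4, 6, 3, 2, 1, 3, 2, 4, 3, 5, 4, 3, 6, 2, 3, 4, 1, 2, 3, 6, 2, 3],
    [4, 3, 2, 1, 3, 6, 5, 3, 2, 1, 3, 6, 2, 3, 0, 1, 2, 3, 5, 6, 3, 1, 2, 3, 4],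
    [0, 1, 3, 2, 3, 2, 1, 5, 3, 2, 1, 6, 3, 2, 5, 3, 2, 3, 4, 1, 2, 3, 2, 3, 5, 6, 1, 2, 1],
    [1, 5, 3, 2, 1, 3, 2, 6, 3, 2, 1, 3, 4, 5, 3, 2, 3, 2, 3, 1, 2, 3, 2, 3, 6, 4, 3, 5, 1],
    [3, 2, 1, 3, 2, 1, 6, 3, 2, 1, 0, 3, 5, 2, 3, 6, 5, 3, 2, 3, 1, 2, 3, 4, 2, 1],
    [5, 6, 3, 5, 6, 3, 2, 1, 3, 2, 3, 6, 2, 3, 2, 3, 1, 2, 3, 6, 5, 3, 6, 5],
    [2, 1, 3, 4, 3, 2, 1, 6, 3, 5, 4, 3, 6, 2, 3, 1, 2, 3, 6, 3, 5, 2, 3, 6],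
    [0, 2, 1, 5, 3, 2, 3, 2, 1, 3, 2, 3, 6, 2, 3, 5, 1, 2, 3, 6, 4, 3, 2, 3, 6, 4, 1],
    [0, 1, 3, 5, 6, 3, 2, 3, 2, 3, 6, 3, 1, 2, 3, 2, 3, 6, 5, 3, 1, 0],
    [1, 4, 3, 2, 6, 3, 2, 1, 0, 3, 2, 3, 5, 3, 2, 3, 5, 2, 3, 1, 2, 3, 6, 2, 3, 4, 1]]

/-- power and commutation rules -/
def rules2 : RuleList :=
  [([0, 0], [2, 4, 8, 9]),
    ([1, 1], []),
    ([2, 2], [6]),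
    ([3, 3], []),
    ([4, 4], [7]),
    ([5, 5], []),
    ([6, 6], []),
    ([7, 7], []),
    ([8, 8], []),
    ([9, 9], []),
    ([1, 0], [0, 1, 2, 4, 8]),
    ([2, 0], [0, 2, 5, 6, 9]),
    ([2, 1], [1, 2, 5, 8, 9]),
    ([3, 0], [0, 3, 5, 8, 9]),
    ([3, 1], [1, 3, 5, 8, 9]),
    ([3, 2], [2, 3, 6]),
    ([4, 0], [0, 4, 5, 6, 8, 9]),
    ([4, 1], [1, 4, 5]),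
    ([4, 2], [2, 4, 6, 7]),
    ([4, 3], [3, 4, 7, 8, 9]),
    ([5, 0], [0, 5, 6, 7, 8, 9]),
    ([5, 1], [1, 5]),
    ([5, 2], [2, 5, 8, 9]),
    ([5, 3], [3, 5]),
    ([5, 4], [4, 5, 8]),
    ([6, 0], [0, 6, 8, 9]),
    ([6, 1], [1, 6, 8, 9]),
    ([6, 2], [2, 6]),
    ([6, 3], [3, 6]),
    ([6, 4], [4, 6, 9]),
    ([6, 5], [5, 6]),
    ([7, 0], [0, 7, 8, 9]),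
    ([7, 1], [1, 7, 8]),
    ([7, 2], [2, 7, 9]),
    ([7, 3], [3, 7]),
    ([7, 4], [4, 7]),
    ([7, 5], [5, 7]),
    ([7, 6], [6, 7]),
    ([8, 0], [0, 8, 9]),
    ([8, 1], [1, 8]),
    ([8, 2], [2, 8]),
    ([8, 3], [3, 8]),
    ([8, 4], [4, 8]),
    ([8, 5], [5, 8]),
    ([8, 6], [6, 8]),
    ([8, 7], [7, 8]),
    ([9, 0], [0, 9]),
    ([9, 1], [1, 9]),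
    ([9, 2], [2, 9]),
    ([9, 3], [3, 9]),
    ([9, 4], [4, 9]),
    ([9, 5], [5, 9]),
    ([9, 6], [6, 9]),
    ([9, 7], [7, 9]),
    ([9, 8], [8, 9])]

/-- conjugators -/
def conjs2 : List (List ℕ × List ℕ × List ℕ) :=
  [([0, 1, 3, 2, 6, 3, 2, 1, 3, 2, 3, 2, 1, 0, 3, 6, 3, 4, 2, 3, 2, 3, 5, 3, 2, 3, 1, 2, 3, 6, 2], [2, 3, 4, 6, 9], [0, 1, 5, 8]),
    ([0, 1, 3, 2, 6, 3, 2, 1, 3, 2, 3, 2, 1, 0, 3, 6, 3, 4, 2, 3, 2, 3, 5, 3, 2, 3, 1, 2, 3, 6, 2], [0, 1, 2, 5, 6, 9], [4, 5, 6, 9]),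
    ([0, 1, 3, 2, 6, 3, 2, 1, 3, 2, 3, 2, 1, 0, 3, 6, 3, 4, 2, 3, 2, 3, 5, 3, 2, 3, 1, 2, 3, 6, 2], [0, 1, 2, 3, 4, 7, 8], [0, 1, 2, 4, 5]),
    ([0, 1, 3, 2, 6, 3, 2, 1, 3, 2, 3, 2, 1, 0, 3, 6, 3, 4, 2, 3, 2, 3, 5, 3, 2, 3, 1, 2, 3, 6, 2], [5, 6], [3, 7, 8, 9]),
    ([0, 1, 3, 2, 6, 3, 2, 1, 3, 2, 3, 2, 1, 0, 3, 6, 3, 4, 2, 3, 2, 3, 5, 3, 2, 3, 1, 2, 3, 6, 2], [0, 1, 2, 3, 4, 5, 7, 8], [0, 1, 2, 3, 4, 5, 8]),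
    ([0, 1, 3, 2, 6, 3, 2, 1, 3, 2, 3, 2, 1, 0, 3, 6, 3, 4, 2, 3, 2, 3, 5, 3, 2, 3, 1, 2, 3, 6, 2], [0, 1, 2, 3, 4, 5, 7, 9], [0, 1, 2, 3, 4, 5, 6, 8, 9]),
    ([0, 1, 3, 2, 6, 3, 2, 1, 3, 2, 3, 2, 1, 0, 3, 6, 3, 4, 2, 3, 2, 3, 5, 3, 2, 3, 1, 2, 3, 6, 2], [0, 1, 3, 7, 9], [2, 4, 5, 6, 7, 9]),
    ([0, 1, 3, 2, 6, 3, 2, 1, 3, 2, 3, 2, 1, 0, 3, 6, 3, 4, 2, 3, 2, 3, 5, 3, 2, 3, 1, 2, 3, 6, 2], [6, 7, 8, 9], [6, 7, 8]),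
    ([0, 1, 3, 2, 6, 3, 2, 1, 3, 2, 3, 2, 1, 0, 3, 6, 3, 4, 2, 3, 2, 3, 5, 3, 2, 3, 1, 2, 3, 6, 2], [9], [9]),
    ([3, 2, 1, 3, 2, 3, 2, 4, 6, 3, 2, 3, 5, 1, 2, 3, 6, 3, 2, 3, 4, 2, 3, 5, 1, 2], [3, 6, 7, 8, 9], [3, 4, 5, 6, 7, 8, 9]),
    ([3, 2, 1, 3, 2, 3, 2, 4, 6, 3, 2, 3, 5, 1, 2, 3, 6, 3, 2, 3, 4, 2, 3, 5, 1, 2], [0, 1, 3, 6, 7, 9], [1, 8]),
    ([2, 1, 3, 2, 3, 2, 1, 5, 3, 2, 1, 6, 3, 5, 4, 2, 3, 2, 3, 1, 2, 3, 2, 3, 6, 4, 3], [0, 1, 3, 6, 8, 9], [0, 1, 4, 5, 6, 7, 8, 9]),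
    ([2, 1, 3, 2, 3, 2, 1, 5, 3, 2, 1, 6, 3, 5, 4, 2, 3, 2, 3, 1, 2, 3, 2, 3, 6, 4, 3], [1, 3, 4, 6], [3, 6, 7, 8, 9]),
    ([2, 1, 3, 2, 3, 2, 1, 5, 3, 2, 1, 6, 3, 5, 4, 2, 3, 2, 3, 1, 2, 3, 2, 3, 6, 4, 3], [2, 4, 5, 8, 9], [7, 8]),
    ([1, 4, 5, 3, 2, 3, 2, 1, 3, 4, 5, 3, 2, 3, 6, 4, 1, 2, 3, 5, 1, 2, 3, 6, 5, 1, 2], [0, 1, 4, 5, 6, 7, 8, 9], [0, 1, 4, 5, 6, 7, 8, 9]),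
    ([1, 4, 5, 3, 2, 3, 2, 1, 3, 4, 5, 3, 2, 3, 6, 4, 1, 2, 3, 5, 1, 2, 3, 6, 5, 1, 2], [0, 1, 3, 4, 5, 7, 8, 9], [0, 1, 3, 4, 5, 6, 7, 8]),
    ([1, 4, 5, 3, 2, 3, 2, 1, 3, 4, 5, 3, 2, 3, 6, 4, 1, 2, 3, 5, 1, 2, 3, 6, 5, 1, 2], [7, 8], [7, 8, 9]),
    ([1, 4, 5, 3, 2, 3, 2, 1, 3, 4, 5, 3, 2, 3, 6, 4, 1, 2, 3, 5, 1, 2, 3, 6, 5, 1, 2], [0, 1, 3, 7], [6, 7, 9])]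

/-- rows -/
def rows2 : List (Spec × List ℕ) :=
  [(.ovl [0] 0 [], [0, 0, 0, 0, 0, 1, 1, 0, 1, 0, 0, 1, 0, 0, 0, 0, 1, 0, 0, 0, 0, 0, 0, 0, 1, 0, 0, 0, 0, 1, 1, 0, 0, 0, 0, 0, 0, 0, 1, 0, 0, 0, 0, 1, 0, 0, 1, 0, 0, 0, 1, 0, 0, 0, 1]),
    (.ovl [1] 10 [], [0, 0, 1, 0, 1, 1, 1, 1, 0, 1, 0, 0, 1, 0, 0, 0, 0, 1, 1, 0, 0, 0, 0, 0, 1, 0, 0, 0, 0, 1, 0, 0, 0, 0, 0, 1, 0, 0, 0, 1, 1, 0, 0, 0, 0, 0, 0, 0, 1, 0, 1, 1, 1, 1, 0]),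
    (.ovl [1] 0 [], [0, 0, 1, 0, 1, 0, 0, 1, 1, 1, 0, 1, 1, 0, 0, 0, 1, 1, 1, 0, 0, 0, 0, 0, 0, 0, 0, 0, 0, 0, 1, 0, 0, 0, 0, 1, 0, 0, 1, 1, 1, 0, 0, 1, 0, 0, 0, 1, 1, 0, 0, 1, 1, 1, 0]),
    (.ovl [2] 10 [], [0, 0, 0, 0, 0, 0, 1, 1, 0, 1, 0, 0, 0, 0, 0, 0, 0, 0, 1, 0, 1, 1, 0, 0, 0, 0, 1, 1, 0, 1, 1, 0, 0, 0, 0, 0, 0, 0, 1, 0, 1, 0, 0, 1, 1, 1, 1, 1, 1, 0, 1, 0, 1, 1, 0]),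
    (.ovl [3] 10 [], [0, 0, 0, 0, 0, 0, 0, 1, 1, 1, 0, 0, 0, 0, 0, 1, 0, 0, 0, 1, 1, 1, 0, 0, 0, 0, 0, 0, 0, 1, 0, 0, 0, 0, 0, 0, 0, 1, 1, 1, 0, 1, 0, 0, 1, 1, 1, 1, 0, 0, 0, 0, 0, 0, 1]),
    (.ovl [4] 10 [], [0, 0, 0, 0, 0, 0, 0, 0, 0, 0, 0, 0, 0, 0, 0, 0, 0, 0, 1, 0, 1, 1, 0, 0, 0, 0, 1, 1, 0, 0, 1, 0, 0, 0, 0, 1, 0, 1, 0, 1, 0, 0, 1, 1, 1, 0, 0, 1, 0, 0, 0, 1, 1, 1, 0]),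
    (.ovl [5] 10 [], [0, 0, 0, 0, 0, 0, 0, 0, 0, 0, 0, 0, 0, 0, 0, 0, 0, 0, 0, 0, 0, 0, 1, 0, 1, 0, 1, 1, 0, 1, 0, 0, 1, 1, 0, 1, 0, 0, 0, 1, 1, 0, 0, 1, 1, 0, 0, 1, 0, 0, 0, 0, 1, 1, 1]),
    (.ovl [6] 10 [], [0, 0, 0, 0, 0, 0, 0, 0, 0, 0, 0, 0, 0, 0, 0, 0, 0, 0, 0, 0, 0, 0, 0, 0, 0, 0, 0, 1, 0, 1, 0, 0, 0, 0, 0, 0, 0, 0, 1, 1, 0, 0, 0, 0, 1, 0, 1, 1, 0, 0, 0, 0, 0, 0, 1]),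
    (.ovl [7] 10 [], [0, 0, 0, 0, 0, 0, 0, 0, 0, 0, 0, 0, 0, 0, 0, 0, 0, 0, 0, 0, 0, 0, 0, 0, 0, 0, 0, 0, 0, 0, 0, 0, 0, 1, 0, 1, 0, 0, 1, 1, 0, 0, 0, 0, 0, 1, 0, 1, 1, 0, 0, 0, 0, 0, 1]),
    (.ovl [8] 10 [], [0, 0, 0, 0, 0, 0, 0, 0, 0, 0, 0, 0, 0, 0, 0, 0, 0, 0, 0, 0, 0, 0, 0, 0, 0, 0, 0, 0, 0, 0, 0, 0, 0, 0, 0, 0, 0, 0, 0, 0, 1, 0, 1, 0, 0, 0, 0, 1, 1, 0, 1, 0, 0, 0, 1]),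
    (.ovl [9] 10 [], [0, 0, 0, 0, 0, 0, 0, 0, 0, 0, 0, 0, 0, 0, 0, 0, 0, 0, 0, 0, 0, 0, 0, 0, 0, 0, 0, 0, 0, 0, 0, 0, 0, 0, 0, 0, 0, 0, 0, 0, 0, 0, 0, 0, 0, 0, 0, 0, 1, 0, 1, 0, 0, 0, 1]),
    (.ovl [2] 11 [], [0, 0, 0, 0, 0, 1, 1, 0, 0, 1, 0, 0, 0, 0, 0, 0, 0, 0, 0, 0, 0, 0, 1, 0, 0, 1, 0, 1, 0, 0, 1, 0, 0, 0, 0, 0, 0, 0, 0, 0, 0, 0, 0, 1, 0, 0, 0, 0, 1, 0, 0, 0, 1]),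
    (.ovl [2] 0 [], [0, 0, 0, 0, 0, 1, 0, 1, 1, 0, 0, 0, 0, 0, 0, 0, 0, 0, 1, 0, 1, 0, 0, 0, 0, 1, 0, 0, 0, 0, 1, 0, 0, 0, 0, 0, 0, 0, 0, 0, 1, 0, 0, 0, 0, 1, 1, 0, 1, 0, 0, 1, 0, 0, 1]),
    (.ovl [3] 11 [], [0, 0, 0, 0, 0, 0, 0, 0, 0, 0, 0, 0, 0, 0, 0, 0, 0, 0, 0, 0, 0, 0, 1, 1, 0, 1, 0, 0, 1, 0, 1, 0, 0, 0, 0, 0, 0, 0, 0, 0, 1, 0, 0, 0, 1, 0, 0, 0, 1, 1, 0, 1, 0, 0, 0]),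
    (.ovl [4] 11 [], [0, 0, 0, 0, 0, 0, 0, 0, 1, 1, 0, 0, 0, 0, 0, 0, 0, 0, 0, 0, 0, 0, 1, 0, 1, 1, 0, 1, 0, 1, 0, 1, 0, 0, 0, 0, 0, 0, 0, 0, 1, 0, 0, 1, 1, 1, 0, 0, 1, 0, 1, 0, 0, 0, 0]),
    (.ovl [5] 11 [], [0, 0, 0, 0, 0, 0, 0, 0, 0, 0, 0, 0, 0, 0, 0, 0, 0, 0, 0, 0, 0, 0, 0, 0, 0, 0, 0, 1, 0, 0, 0, 0, 0, 1, 0, 0, 1, 1, 1, 0, 1, 0, 0, 0, 1, 1, 1, 0, 1, 0, 0, 0, 1, 0, 1]),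
    (.ovl [6] 11 [], [0, 0, 0, 0, 0, 0, 0, 0, 0, 0, 0, 0, 0, 0, 0, 0, 0, 0, 0, 0, 0, 0, 0, 0, 0, 0, 0, 0, 0, 0, 1, 0, 0, 0, 0, 0, 0, 0, 0, 0, 1, 0, 0, 1, 1, 0, 0, 0, 1, 0, 0, 1, 0, 0, 1]),
    (.ovl [7] 11 [], [0, 0, 0, 0, 0, 0, 0, 0, 0, 0, 0, 0, 0, 0, 0, 0, 0, 0, 0, 0, 0, 0, 0, 0, 0, 0, 0, 0, 0, 0, 0, 0, 0, 0, 0, 0, 1, 1, 0, 0, 1, 0, 0, 1, 1, 0, 1, 0, 1, 0, 0, 0, 0, 1, 0]),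
    (.ovl [8] 11 [], [0, 0, 0, 0, 0, 0, 0, 0, 0, 0, 0, 0, 0, 0, 0, 0, 0, 0, 0, 0, 0, 0, 0, 0, 0, 0, 0, 0, 0, 0, 0, 0, 0, 0, 0, 0, 0, 0, 0, 0, 0, 0, 0, 1, 1, 0, 0, 0, 1, 0, 0, 1, 1, 0, 1]),
    (.ovl [9] 11 [], [0, 0, 0, 0, 0, 0, 0, 0, 0, 0, 0, 0, 0, 0, 0, 0, 0, 0, 0, 0, 0, 0, 0, 0, 0, 0, 0, 0, 0, 0, 0, 0, 0, 0, 0, 0, 0, 0, 0, 0, 0, 0, 0, 0, 0, 0, 0, 0, 0, 0, 0, 1, 1]),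
    (.ovl [3] 13 [], [0, 0, 0, 0, 0, 1, 0, 0, 1, 1, 0, 0, 0, 0, 0, 0, 0, 0, 0, 0, 0, 0, 0, 1, 0, 0, 0, 0, 0, 0, 0, 0, 0, 0, 0, 0, 0, 0, 0, 0, 0, 1, 0, 1, 0, 0, 0, 0, 0, 1, 0, 1, 0, 0, 1]),
    (.ovl [3] 0 [], [0, 0, 0, 0, 0, 1, 0, 1, 0, 0, 0, 0, 0, 0, 0, 1, 0, 0, 0, 1, 1, 0, 0, 0, 0, 0, 0, 0, 0, 1, 0, 0, 0, 0, 0, 0, 0, 1, 1, 0, 0, 1, 0, 1, 1, 1, 1, 0, 0, 1, 0, 1, 1, 1, 1]),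
    (.ovl [4] 13 [], [0, 0, 0, 0, 0, 0, 0, 0, 1, 1, 0, 0, 0, 0, 0, 0, 0, 0, 0, 0, 0, 0, 0, 1, 1, 0, 0, 0, 1, 0, 1, 1, 0, 0, 0, 0, 0, 1, 1, 0, 0, 1, 1, 1, 1, 1, 1, 0, 0, 1, 1, 0, 0, 0, 1]),
    (.ovl [5] 13 [], [0, 0, 0, 0, 0, 0, 0, 0, 0, 0, 0, 0, 0, 0, 0, 0, 0, 0, 0, 0, 0, 0, 0, 0, 0, 0, 0, 0, 1, 0, 1, 0, 0, 0, 1, 0, 1, 0, 0, 0, 0, 1, 0, 0, 1, 1, 0, 0, 0, 1, 0, 0, 1, 1, 0]),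
    (.ovl [6] 13 [], [0, 0, 0, 0, 0, 0, 0, 0, 0, 0, 0, 0, 0, 0, 0, 0, 0, 0, 0, 0, 0, 0, 0, 0, 0, 0, 0, 0, 0, 0, 1, 0, 0, 0, 0, 0, 0, 0, 0, 0, 0, 1, 0, 1, 1, 0, 0, 0, 0, 1, 0, 1, 1, 0, 0]),
    (.ovl [7] 13 [], [0, 0, 0, 0, 0, 0, 0, 0, 0, 0, 0, 0, 0, 0, 0, 0, 0, 0, 0, 0, 0, 0, 0, 0, 0, 0, 0, 0, 0, 0, 0, 0, 0, 0, 0, 0, 1, 0, 0, 0, 0, 1, 0, 1, 0, 1, 0, 0, 0, 1, 0, 1, 0, 1, 0]),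
    (.ovl [8] 13 [], [0, 0, 0, 0, 0, 0, 0, 0, 0, 0, 0, 0, 0, 0, 0, 0, 0, 0, 0, 0, 0, 0, 0, 0, 0, 0, 0, 0, 0, 0, 0, 0, 0, 0, 0, 0, 0, 0, 0, 0, 0, 0, 0, 1, 0, 0, 0, 0, 0, 1, 0, 1, 0, 0, 0]),
    (.ovl [9] 13 [], [0, 0, 0, 0, 0, 0, 0, 0, 0, 0, 0, 0, 0, 0, 0, 0, 0, 0, 0, 0, 0, 0, 0, 0, 0, 0, 0, 0, 0, 0, 0, 0, 0, 0, 0, 0, 0, 0, 0, 0, 0, 0, 0, 0, 0, 0, 0, 0, 0, 0, 0, 1, 0, 0, 1]),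
    (.ovl [4] 16 [], [0, 0, 0, 0, 0, 1, 1, 0, 1, 1, 0, 0, 0, 0, 0, 0, 0, 0, 0, 0, 0, 0, 0, 0, 1, 0, 0, 0, 0, 1, 1, 1, 0, 0, 0, 0, 0, 0, 0, 0, 0, 0, 1, 0, 1, 0, 0, 0, 0, 0, 1, 0, 0, 0, 1]),
    (.ovl [4] 0 [], [0, 0, 0, 0, 0, 1, 1, 0, 0, 0, 0, 0, 0, 0, 0, 0, 0, 0, 1, 0, 1, 0, 0, 0, 0, 1, 0, 0, 0, 1, 1, 0, 0, 0, 0, 1, 0, 1, 1, 0, 0, 0, 1, 1, 0, 0, 1, 0, 0, 0, 1, 1, 0, 1, 1]),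
    (.ovl [5] 16 [], [0, 0, 0, 0, 0, 0, 0, 0, 0, 0, 0, 0, 0, 0, 0, 0, 0, 0, 0, 0, 0, 0, 0, 0, 0, 0, 0, 0, 0, 1, 0, 0, 0, 0, 0, 1, 1, 1, 1, 0, 0, 0, 1, 1, 0, 0, 0, 0, 0, 0, 1, 1, 1, 0, 0]),
    (.ovl [6] 16 [], [0, 0, 0, 0, 0, 0, 0, 0, 0, 0, 0, 0, 0, 0, 0, 0, 0, 0, 0, 0, 0, 0, 0, 0, 0, 0, 0, 0, 0, 0, 1, 0, 0, 0, 0, 0, 0, 0, 0, 0, 0, 0, 1, 1, 0, 0, 1, 0, 0, 0, 1, 0, 1, 0, 0]),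
    (.ovl [7] 16 [], [0, 0, 0, 0, 0, 0, 0, 0, 0, 0, 0, 0, 0, 0, 0, 0, 0, 0, 0, 0, 0, 0, 0, 0, 0, 0, 0, 0, 0, 0, 0, 0, 0, 0, 0, 0, 1, 1, 0, 0, 0, 0, 1, 1, 1, 1, 0, 0, 0, 0, 1, 1, 1, 1, 0]),
    (.ovl [9] 16 [], [0, 0, 0, 0, 0, 0, 0, 0, 0, 0, 0, 0, 0, 0, 0, 0, 0, 0, 0, 0, 0, 0, 0, 0, 0, 0, 0, 0, 0, 0, 0, 0, 0, 0, 0, 0, 0, 0, 0, 0, 0, 0, 0, 0, 0, 0, 0, 0, 0, 0, 0, 1, 1, 0, 1]),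
    (.ovl [5] 0 [], [0, 0, 0, 0, 0, 0, 1, 1, 1, 0, 0, 0, 0, 0, 0, 0, 0, 0, 0, 0, 0, 0, 1, 0, 1, 1, 0, 0, 0, 0, 0, 1, 0, 0, 0, 0, 0, 1, 1, 0, 0, 0, 1, 1, 1, 0, 1, 0, 0, 0, 1, 1, 1, 0, 1]),
    (.ovl [7] 20 [], [0, 0, 0, 0, 0, 0, 0, 0, 0, 0, 0, 0, 0, 0, 0, 0, 0, 0, 0, 0, 0, 0, 0, 0, 0, 0, 0, 0, 0, 0, 0, 0, 0, 0, 0, 0, 0, 1, 0, 0, 0, 0, 0, 1, 1, 0, 0, 0, 0, 0, 0, 1, 1, 0, 0]),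
    (.ovl [2] 12 [], [0, 0, 0, 0, 0, 1, 0, 0, 1, 1, 0, 0, 0, 0, 0, 0, 0, 0, 0, 0, 0, 0, 1, 0, 0, 0, 1, 0, 0, 0, 0, 0, 0, 0, 0, 0, 0, 0, 0, 0, 1, 0, 0, 0, 0, 0, 0, 0, 1, 0, 0, 0, 0, 0, 1]),
    (.cnj 0 [0, 0] [7], [1, 1, 0, 1, 0, 0, 1, 0, 0, 0, 1, 0, 1, 0, 0, 1, 0, 1, 0, 1, 1, 1, 0, 0, 1, 0, 1, 1, 1, 1, 1, 0, 1, 0, 1, 1, 1, 0, 1, 1, 1, 0, 1, 0, 1, 0, 0, 0, 1, 1, 0, 0, 0, 0, 1, 0, 0, 0, 0, 0, 0, 0, 1]),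
    (.cnj 0 [1, 1] [4, 5, 7, 8], [1, 1, 0, 0, 0, 0, 1, 0, 1, 0, 1, 1, 0, 0, 0, 0, 0, 1, 1, 0, 1, 0, 1, 0, 0, 1, 1, 1, 0, 0, 1, 1, 0, 0, 1, 0, 0, 0, 0, 0, 0, 0, 0, 1, 1, 0, 1, 1, 1, 0, 1, 1, 1, 0, 1, 0, 0, 0, 0, 1, 1, 0, 1, 1]),
    (.cnj 0 [2, 2] [7, 8], [0, 0, 0, 1, 0, 0, 0, 1, 0, 0, 0, 0, 0, 1, 1, 1, 0, 0, 0, 1, 1, 0, 1, 0, 1, 0, 1, 1, 1, 1, 0, 1, 0, 0, 0, 1, 1, 0, 1, 1, 0, 0, 0, 0, 0, 0, 0, 0, 0, 1, 1, 0, 0, 1, 1, 0, 0, 0, 0, 0, 0, 0, 1, 1]),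
    (.cnj 0 [3, 3] [], [0, 0, 0, 1, 0, 1, 1, 1, 1, 1, 0, 0, 0, 0, 0, 0, 0, 0, 0, 0, 0, 0, 0, 0, 0, 0, 0, 0, 0, 0, 1, 0, 0, 0, 1, 0, 0, 0, 0, 0, 0, 1, 0, 0, 0, 1, 0, 0, 0, 1, 0, 0, 0, 1, 1, 0, 0, 0, 0]),
    (.cnj 0 [4, 4] [8], [0, 0, 0, 0, 0, 0, 0, 1, 0, 0, 0, 0, 0, 0, 0, 0, 0, 0, 0, 0, 0, 0, 0, 0, 0, 0, 0, 0, 0, 0, 0, 1, 1, 1, 1, 1, 1, 0, 0, 1, 0, 0, 0, 0, 0, 0, 0, 1, 1, 0, 0, 0, 0, 0, 1, 0, 0, 0, 0, 0, 0, 0, 0, 1]),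
    (.cnj 0 [6, 6] [], [1, 1, 0, 1, 0, 1, 1, 0, 1, 1, 1, 0, 1, 1, 1, 0, 0, 1, 0, 0, 0, 1, 1, 0, 0, 0, 0, 1, 0, 1, 1, 1, 1, 1, 1, 1, 1, 1, 0, 1, 1, 0, 1, 1, 0, 1, 1, 1, 1, 0, 0, 1, 1, 1, 1, 0, 0, 0, 0, 0, 0, 0]),
    (.cnj 0 [1, 0] [0, 1, 2, 3, 5, 7, 8], [0, 0, 0, 0, 0, 0, 1, 0, 1, 0, 0, 1, 1, 1, 1, 1, 0, 0, 1, 1, 1, 1, 1, 0, 0, 1, 1, 1, 1, 1, 1, 0, 1, 0, 1, 1, 1, 0, 0, 0, 0, 1, 0, 1, 1, 0, 1, 0, 1, 0, 1, 0, 0, 1, 1, 0, 0, 1, 1, 0, 1, 0, 1, 1]),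
    (.cnj 0 [2, 0] [0, 2], [0, 0, 0, 0, 0, 1, 0, 0, 0, 1, 0, 0, 0, 1, 1, 0, 0, 0, 0, 0, 0, 1, 1, 0, 1, 1, 1, 0, 0, 0, 1, 0, 0, 0, 1, 0, 0, 1, 1, 0, 1, 0, 0, 0, 0, 0, 1, 0, 0, 0, 1, 0, 0, 0, 1, 0, 0, 0]),
    (.cnj 0 [2, 1] [1, 2, 4, 5], [0, 0, 0, 0, 0, 1, 1, 0, 1, 0, 0, 0, 0, 1, 1, 1, 0, 0, 0, 0, 0, 1, 0, 1, 1, 0, 0, 0, 0, 1, 1, 0, 0, 0, 0, 0, 0, 1, 1, 0, 1, 1, 1, 0, 0, 0, 1, 0, 1, 1, 0, 0, 1, 0, 1, 0, 0, 0, 0, 1, 1]),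
    (.cnj 9 [9, 9] [], [0, 0, 0, 0, 1, 1, 0, 1, 1, 1, 0, 0, 0, 0, 0, 0, 0, 0, 0, 1, 0, 0, 0, 1, 1, 0, 0, 0, 0, 1, 1, 0, 0, 0, 0, 0, 1, 0, 0, 0, 0, 0, 0, 0, 0, 1, 0, 0, 0, 0, 0, 0, 1, 1, 1, 0, 0, 0, 0, 0, 0, 0, 0, 0, 0]),
    (.cnj 9 [10, 10] [], [1, 0, 1, 1, 1, 0, 0, 0, 0, 1, 1, 0, 1, 1, 1, 0, 0, 1, 1, 0, 0, 1, 0, 0, 1, 1, 1, 0, 1, 1, 0, 1, 1, 0, 1, 1, 0, 1, 0, 1, 1, 0, 0, 1, 0, 0, 1, 0, 0, 0, 0, 1, 1, 1, 0, 0, 0, 0, 0, 0, 0, 0, 0, 0, 0, 0]),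
    (.cnj 9 [10, 9] [9, 10], [0, 0, 0, 0, 0, 0, 0, 0, 1, 0, 0, 0, 0, 1, 0, 0, 0, 1, 0, 0, 0, 0, 0, 0, 1, 1, 0, 0, 0, 0, 0, 1, 0, 0, 0, 0, 0, 0, 1, 1, 0, 0, 0, 0, 0, 1, 1, 0, 0, 0, 1, 1, 1, 0, 0, 0, 0, 0, 0, 0, 0, 0, 0, 0, 0, 0]),
    (.cnj 11 [11, 11] [], [0, 0, 0, 1, 1, 1, 1, 0, 1, 1, 0, 0, 0, 1, 1, 0, 1, 1, 0, 0, 1, 1, 0, 0, 1, 0, 0, 0, 1, 1, 0, 1, 0, 0, 0, 0, 0, 1, 0, 0, 0, 1, 0, 1, 0, 1, 0, 0, 0, 0, 1, 0, 1, 1, 1, 0, 0, 0, 0, 0, 0, 0, 0, 0, 0, 0, 0]),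
    (.cnj 11 [12, 12] [], [0, 1, 0, 0, 1, 1, 0, 0, 1, 1, 0, 0, 0, 0, 1, 0, 0, 1, 0, 1, 0, 0, 0, 0, 1, 0, 1, 0, 0, 1, 0, 0, 0, 0, 1, 1, 0, 1, 0, 0, 0, 0, 1, 0, 0, 1, 0, 0, 0, 1, 0, 1, 1, 0, 1, 0, 0, 0, 0, 0, 0, 0, 0, 0, 0, 0, 0, 0]),
    (.cnj 11 [13, 13] [], [0, 0, 1, 0, 1, 1, 1, 0, 1, 0, 0, 0, 0, 0, 0, 0, 0, 0, 1, 0, 0, 0, 1, 0, 1, 0, 0, 0, 0, 1, 0, 0, 0, 0, 0, 1, 0, 0, 0, 0, 1, 0, 0, 1, 0, 0, 0, 0, 1, 0, 1, 0, 1, 1, 0, 0, 0, 0, 0, 0, 0, 0, 0, 0, 0, 0, 0, 0, 0]),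
    (.cnj 11 [12, 11] [11, 12, 13], [0, 0, 0, 0, 0, 0, 0, 1, 1, 1, 1, 0, 1, 0, 1, 0, 1, 0, 1, 0, 0, 1, 1, 1, 1, 0, 0, 0, 0, 1, 1, 1, 1, 0, 1, 1, 0, 1, 1, 1, 0, 0, 0, 0, 0, 1, 1, 0, 0, 1, 1, 0, 1, 0, 1, 0, 0, 0, 0, 0, 0, 0, 0, 0, 0, 0, 0, 0, 1]),
    (.cnj 14 [15, 15] [16], [0, 0, 0, 0, 0, 0, 1, 0, 1, 0, 0, 0, 0, 0, 0, 0, 0, 0, 0, 0, 0, 0, 0, 0, 0, 1, 1, 0, 1, 1, 1, 0, 0, 0, 0, 0, 0, 1, 0, 1, 0, 0, 0, 0, 0, 1, 1, 0, 0, 1, 1, 0, 1, 0, 0, 0, 0, 0, 0, 0, 0, 0, 0, 0, 0, 0, 0, 0, 0, 0, 0, 1]),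
    (.cnj 14 [17, 15] [15, 17], [0, 0, 0, 0, 0, 1, 1, 1, 0, 0, 0, 0, 0, 0, 0, 0, 1, 1, 0, 1, 1, 0, 0, 1, 0, 1, 1, 0, 1, 1, 0, 1, 0, 0, 0, 0, 1, 0, 1, 0, 0, 0, 0, 1, 0, 1, 0, 1, 0, 0, 1, 0, 0, 1, 0, 0, 0, 0, 0, 0, 0, 0, 0, 0, 0, 0, 0, 0, 0, 0, 0, 0, 0])]

/-- shifts -/
def lam2 : List (List ℕ) :=
  [[],
    [],
    [0, 0, 0, 0, 0, 0, 0, 0, 0, 0, 0, 0, 0, 0, 0, 0, 0, 1, 0, 0, 0, 0, 0, 0, 0, 0, 0, 0, 0, 0, 0, 0, 1, 0, 0, 0, 0, 0, 0, 0, 0, 0, 0, 0, 0, 0, 0, 0, 0, 0, 0, 0, 0, 0, 0, 0, 0, 1, 1, 0, 1, 0, 0, 0, 0, 0, 0, 0, 1],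
    [],
    [],
    [0, 0, 0, 0, 0, 0, 0, 0, 0, 0, 0, 0, 0, 0, 0, 0, 0, 1],
    [0, 0, 0, 0, 0, 0, 0, 0, 0, 0, 0, 0, 0, 0, 0, 0, 0, 0, 0, 0, 0, 0, 0, 0, 0, 0, 0, 0, 0, 0, 0, 0, 1, 0, 0, 0, 0, 0, 0, 0, 0, 0, 0, 0, 0, 0, 0, 0, 0, 0, 0, 0, 0, 0, 0, 0, 0, 0, 0, 1, 1],
    [0, 0, 0, 0, 0, 0, 0, 0, 0, 0, 0, 0, 0, 0, 0, 0, 0, 0, 0, 0, 0, 0, 0, 0, 0, 0, 0, 0, 0, 0, 0, 0, 1, 0, 0, 0, 0, 0, 0, 0, 0, 0, 0, 0, 0, 0, 0, 0, 0, 0, 0, 0, 0, 0, 0, 0, 0, 1, 1, 0, 1, 0, 0, 0, 0, 0, 0, 0, 0, 0, 0, 1],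
    [0, 0, 0, 0, 0, 0, 0, 0, 0, 0, 0, 0, 0, 0, 0, 0, 0, 0, 0, 0, 0, 0, 0, 0, 0, 0, 0, 0, 0, 0, 0, 0, 1],
    [0, 0, 0, 0, 0, 0, 0, 0, 0, 0, 0, 0, 0, 0, 0, 0, 0, 0, 0, 0, 0, 0, 0, 0, 0, 0, 0, 0, 0, 0, 0, 0, 0, 0, 0, 0, 0, 0, 0, 0, 0, 0, 0, 0, 0, 0, 0, 0, 0, 0, 0, 0, 0, 0, 0, 0, 0, 0, 0, 0, 0, 0, 0, 0, 0, 0, 0, 0, 0, 0, 0, 1]]

/-- combinations -/
def combos2 : List (List (ℕ × ℕ)) :=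
  [[(0, 1), (1, 1), (2, 1), (4, 1), (8, 1), (11, 1), (15, 1), (16, 1), (17, 1), (18, 1), (20, 1), (21, 1), (22, 1), (29, 1), (30, 1), (31, 1), (33, 1), (35, 1), (36, 1), (38, 1), (40, 1), (43, 1), (44, 1), (45, 1), (49, 1), (50, 1), (52, 1), (53, 1)],
    [(0, 1), (1, 1), (2, 1), (13, 1), (15, 1), (16, 1), (17, 1), (18, 1), (19, 1), (20, 1), (25, 1), (26, 1), (30, 1), (31, 1), (32, 1), (33, 1), (36, 1), (42, 1), (47, 1), (51, 1)],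
    [(4, 1), (6, 1), (8, 1), (10, 1), (13, 1), (14, 1), (15, 1), (20, 1), (22, 1), (23, 1), (24, 1), (26, 1), (27, 1), (29, 1), (31, 1), (32, 1), (34, 1), (36, 1), (42, 1), (45, 1), (47, 1), (48, 1), (50, 1)],
    [(2, 1), (3, 1), (8, 1), (9, 1), (11, 1), (12, 1), (16, 1), (17, 1), (25, 1), (28, 1), (29, 1), (32, 1), (35, 1), (36, 1), (37, 1), (38, 1), (40, 1), (41, 1), (45, 1), (46, 1), (49, 1), (51, 1)],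
    [(4, 1), (5, 1), (12, 1), (13, 1), (15, 1), (17, 1), (19, 1), (20, 1), (21, 1), (23, 1), (28, 1), (30, 1), (32, 1), (33, 1), (36, 1), (37, 1), (38, 1), (39, 1), (41, 1), (43, 1), (44, 1), (45, 1), (46, 1), (53, 1)],
    [(3, 1), (8, 1), (11, 1), (12, 1), (14, 1), (18, 1), (19, 1), (22, 1), (24, 1), (27, 1), (28, 1), (30, 1), (32, 1), (35, 1), (40, 1), (42, 1), (47, 1), (48, 1), (49, 1), (50, 1), (51, 1), (54, 1)],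
    [(3, 1), (4, 1), (6, 1), (7, 1), (8, 1), (9, 1), (10, 1), (11, 1), (13, 1), (14, 1), (17, 1), (18, 1), (19, 1), (21, 1), (22, 1), (24, 1), (25, 1), (28, 1), (29, 1), (30, 1), (32, 1), (37, 1), (39, 1), (40, 1), (41, 1), (42, 1)],
    [(0, 1), (1, 1), (2, 1), (3, 1), (4, 1), (6, 1), (7, 1), (8, 1), (16, 1), (17, 1), (18, 1), (19, 1), (21, 1), (24, 1), (26, 1), (29, 1), (30, 1), (31, 1), (33, 1), (34, 1), (35, 1), (37, 1), (39, 1), (40, 1), (41, 1), (42, 1)],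
    [(7, 1), (8, 1), (10, 1), (11, 1), (12, 1), (13, 1), (14, 1), (15, 1), (18, 1), (19, 1), (22, 1), (25, 1), (26, 1), (27, 1), (28, 1), (29, 1), (33, 1), (34, 1)],
    [(7, 1), (8, 1), (10, 1), (11, 1), (14, 1), (15, 1), (16, 1), (17, 1), (18, 1), (19, 1), (28, 1), (30, 1), (31, 1), (32, 1), (33, 1)],
    [(1, 1), (3, 1), (6, 1), (10, 1), (11, 1), (12, 1), (13, 1), (15, 1), (16, 1), (18, 1), (19, 1), (22, 1), (23, 1), (24, 1), (29, 1), (30, 1), (33, 1), (34, 1), (38, 1), (40, 1), (43, 1), (44, 1), (45, 1), (46, 1), (47, 1), (50, 1), (52, 1), (54, 1)],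
    [(0, 1), (2, 1), (3, 1), (5, 1), (6, 1), (7, 1), (9, 1), (11, 1), (13, 1), (14, 1), (15, 1), (16, 1), (18, 1), (21, 1), (24, 1), (25, 1), (26, 1), (27, 1), (28, 1), (29, 1), (30, 1), (32, 1), (33, 1), (34, 1), (36, 1), (37, 1), (38, 1), (41, 1), (42, 1), (47, 1), (48, 1), (49, 1), (50, 1), (53, 1), (54, 1)],
    [(0, 1), (7, 1), (8, 1), (9, 1), (15, 1), (19, 1), (22, 1), (23, 1), (25, 1), (27, 1), (29, 1), (31, 1), (33, 1), (35, 1), (38, 1), (39, 1), (40, 1), (44, 1), (45, 1), (47, 1), (48, 1), (49, 1), (50, 1), (51, 1), (53, 1)],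
    [(0, 1), (1, 1), (2, 1), (4, 1), (5, 1), (7, 1), (8, 1), (11, 1), (12, 1), (14, 1), (15, 1), (19, 1), (20, 1), (21, 1), (22, 1), (25, 1), (26, 1), (27, 1), (28, 1), (33, 1), (34, 1), (37, 1), (39, 1), (41, 1), (42, 1), (44, 1), (46, 1), (48, 1), (49, 1), (53, 1), (54, 1)],
    [(2, 1), (4, 1), (5, 1), (6, 1), (11, 1), (13, 1), (14, 1), (18, 1), (20, 1), (21, 1), (25, 1), (26, 1), (27, 1), (34, 1), (37, 1), (38, 1), (41, 1), (44, 1), (45, 1), (46, 1), (48, 1), (49, 1), (51, 1), (53, 1)],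
    [(3, 1), (4, 1), (5, 1), (8, 1), (9, 1), (12, 1), (16, 1), (18, 1), (21, 1), (23, 1), (25, 1), (27, 1), (29, 1), (30, 1), (32, 1), (35, 1), (37, 1), (39, 1), (40, 1), (41, 1), (45, 1), (46, 1), (47, 1), (48, 1), (50, 1), (51, 1)],
    [(3, 1), (5, 1), (7, 1), (8, 1), (11, 1), (13, 1), (14, 1), (15, 1), (16, 1), (17, 1), (20, 1), (21, 1), (23, 1), (24, 1), (25, 1), (26, 1), (31, 1), (32, 1), (33, 1), (36, 1), (40, 1), (45, 1), (46, 1), (49, 1), (53, 1)],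
    [],
    [(0, 1), (1, 1), (3, 1), (6, 1), (7, 1), (8, 1), (12, 1), (14, 1), (18, 1), (20, 1), (21, 1), (22, 1), (23, 1), (25, 1), (31, 1), (32, 1), (33, 1), (36, 1), (39, 1), (43, 1), (45, 1), (46, 1), (49, 1), (51, 1), (53, 1)],
    [(0, 1), (1, 1), (2, 1), (4, 1), (6, 1), (9, 1), (11, 1), (13, 1), (15, 1), (17, 1), (18, 1), (20, 1), (21, 1), (23, 1), (26, 1), (30, 1), (35, 1), (36, 1), (37, 1), (38, 1), (39, 1), (40, 1), (41, 1), (42, 1), (43, 1), (44, 1), (45, 1), (47, 1), (48, 1), (49, 1), (50, 1), (51, 1), (54, 1)],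
    [(2, 1), (5, 1), (6, 1), (13, 1), (15, 1), (17, 1), (19, 1), (21, 1), (22, 1), (23, 1), (25, 1), (26, 1), (32, 1), (35, 1), (37, 1), (41, 1), (42, 1), (43, 1), (44, 1), (45, 1), (51, 1), (54, 1)],
    [(4, 1), (5, 1), (7, 1), (9, 1), (11, 1), (14, 1), (15, 1), (19, 1), (21, 1), (22, 1), (25, 1), (26, 1), (28, 1), (29, 1), (31, 1), (40, 1), (42, 1), (47, 1), (48, 1), (49, 1), (50, 1), (51, 1), (54, 1)],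
    [(2, 1), (3, 1), (4, 1), (6, 1), (7, 1), (10, 1), (12, 1), (14, 1), (15, 1), (16, 1), (19, 1), (21, 1), (22, 1), (23, 1), (26, 1), (29, 1), (31, 1), (32, 1), (35, 1), (37, 1), (38, 1), (41, 1), (42, 1), (44, 1), (45, 1), (47, 1), (48, 1), (49, 1), (50, 1), (53, 1)],
    [(2, 1), (5, 1), (6, 1), (7, 1), (11, 1), (13, 1), (14, 1), (16, 1), (18, 1), (23, 1), (26, 1), (28, 1), (38, 1), (39, 1), (40, 1), (42, 1), (45, 1), (46, 1), (49, 1), (51, 1)],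
    [(5, 1), (6, 1), (8, 1), (9, 1), (11, 1), (14, 1), (15, 1), (16, 1), (17, 1), (22, 1), (24, 1), (28, 1), (29, 1), (31, 1), (33, 1), (35, 1), (36, 1), (40, 1), (42, 1), (47, 1), (48, 1), (49, 1), (50, 1), (51, 1), (54, 1)],
    [(0, 1), (1, 1), (2, 1), (3, 1), (4, 1), (5, 1), (6, 1), (7, 1), (9, 1), (10, 1), (14, 1), (17, 1), (19, 1), (20, 1), (21, 1), (24, 1), (26, 1), (31, 1), (32, 1), (33, 1), (36, 1), (42, 1), (44, 1), (46, 1), (47, 1), (48, 1), (50, 1), (51, 1), (53, 1)],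
    [(0, 1), (1, 1), (2, 1), (3, 1), (4, 1), (5, 1), (7, 1), (8, 1), (9, 1), (10, 1), (11, 1), (12, 1), (13, 1), (16, 1), (19, 1), (20, 1), (21, 1), (22, 1), (25, 1), (27, 1), (28, 1), (29, 1), (30, 1), (36, 1), (37, 1), (39, 1), (40, 1), (41, 1), (44, 1), (46, 1), (47, 1), (48, 1), (50, 1), (51, 1), (53, 1)],
    [(0, 1), (1, 1), (2, 1), (3, 1), (4, 1), (7, 1), (13, 1), (14, 1), (19, 1), (21, 1), (22, 1), (24, 1), (27, 1), (28, 1), (29, 1), (30, 1), (32, 1), (34, 1), (35, 1), (36, 1)],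
    [(0, 1), (1, 1), (2, 1), (6, 1), (7, 1), (9, 1), (11, 1), (12, 1), (14, 1), (15, 1), (16, 1), (17, 1), (18, 1), (20, 1), (22, 1), (24, 1), (27, 1), (28, 1), (29, 1), (33, 1), (35, 1), (36, 1), (37, 1), (39, 1), (40, 1), (41, 1), (42, 1)],
    [(0, 1), (1, 1), (4, 1), (5, 1), (8, 1), (9, 1), (12, 1), (14, 1), (15, 1), (16, 1), (17, 1), (21, 1), (22, 1), (23, 1), (29, 1), (30, 1), (32, 1), (33, 1), (36, 1), (37, 1), (38, 1), (40, 1), (41, 1), (42, 1), (45, 1), (46, 1), (47, 1), (48, 1), (50, 1), (53, 1), (54, 1)],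
    [(0, 1), (1, 1), (3, 1), (5, 1), (6, 1), (7, 1), (8, 1), (9, 1), (16, 1), (17, 1), (20, 1), (23, 1), (25, 1), (27, 1), (29, 1), (33, 1), (34, 1), (35, 1), (38, 1), (39, 1), (45, 1), (46, 1), (47, 1), (48, 1), (50, 1), (54, 1)],
    [(0, 1), (1, 1), (7, 1), (9, 1), (10, 1), (11, 1), (12, 1), (16, 1), (19, 1), (22, 1), (23, 1), (25, 1), (26, 1), (27, 1), (32, 1), (34, 1), (35, 1), (38, 1), (39, 1), (45, 1), (46, 1), (47, 1), (48, 1), (50, 1), (53, 1), (54, 1)],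
    [],
    [(2, 1), (3, 1), (4, 1), (9, 1), (12, 1), (13, 1), (14, 1), (15, 1), (18, 1), (19, 1), (21, 1), (23, 1), (25, 1), (26, 1), (29, 1), (30, 1), (31, 1), (32, 1), (33, 1), (34, 1), (36, 1), (37, 1), (38, 1), (40, 1), (41, 1), (42, 1), (45, 1), (46, 1), (47, 1), (48, 1), (50, 1), (53, 1), (54, 1)],
    [(2, 1), (3, 1), (5, 1), (7, 1), (11, 1), (12, 1), (14, 1), (16, 1), (19, 1), (22, 1), (25, 1), (27, 1), (28, 1), (30, 1), (32, 1), (34, 1), (35, 1), (36, 1), (37, 1), (38, 1), (40, 1), (41, 1), (42, 1), (45, 1), (46, 1), (47, 1), (48, 1), (50, 1), (54, 1)],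
    [(4, 1), (5, 1), (14, 1), (19, 1), (21, 1), (26, 1), (27, 1), (28, 1), (29, 1), (30, 1), (31, 1), (32, 1), (36, 1)],
    [(0, 1), (1, 1), (6, 1), (7, 1), (10, 1), (14, 1), (15, 1), (16, 1), (17, 1), (20, 1), (23, 1), (25, 1), (29, 1), (31, 1), (33, 1), (38, 1), (39, 1), (45, 1), (46, 1), (47, 1), (48, 1), (50, 1), (54, 1)],
    [(7, 1), (8, 1), (15, 1), (16, 1), (18, 1), (19, 1), (24, 1), (25, 1), (27, 1), (30, 1), (32, 1)],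
    [(0, 1), (1, 1), (3, 1), (5, 1), (10, 1), (12, 1), (14, 1), (16, 1), (17, 1), (19, 1), (22, 1), (23, 1), (24, 1), (25, 1), (26, 1), (27, 1), (28, 1), (30, 1), (32, 1), (34, 1), (35, 1), (37, 1), (38, 1), (40, 1), (41, 1), (42, 1), (45, 1), (46, 1), (47, 1), (48, 1), (50, 1), (53, 1), (54, 1)],
    [(0, 1), (1, 1), (2, 1), (8, 1), (10, 1), (13, 1), (14, 1), (15, 1), (16, 1), (22, 1), (25, 1), (26, 1), (30, 1), (31, 1), (32, 1)],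
    [(0, 1), (1, 1), (3, 1), (5, 1), (6, 1), (7, 1), (8, 1), (9, 1), (17, 1), (18, 1), (20, 1), (23, 1), (25, 1), (29, 1), (34, 1), (35, 1), (38, 1), (39, 1), (45, 1), (46, 1), (47, 1), (48, 1), (50, 1), (54, 1)],
    [(2, 1), (3, 1), (5, 1), (6, 1), (7, 1), (8, 1), (17, 1), (20, 1), (23, 1), (24, 1), (25, 1), (26, 1), (29, 1), (31, 1), (33, 1), (34, 1), (35, 1), (38, 1), (39, 1), (45, 1), (46, 1), (47, 1), (48, 1), (50, 1), (54, 1)],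
    [(2, 1), (3, 1), (5, 1), (6, 1), (10, 1), (15, 1), (16, 1), (17, 1), (19, 1), (20, 1), (23, 1), (25, 1), (27, 1), (29, 1), (30, 1), (31, 1), (33, 1), (34, 1), (35, 1), (38, 1), (39, 1), (45, 1), (46, 1), (47, 1), (48, 1), (50, 1), (54, 1)],
    [(0, 1), (1, 1), (2, 1), (7, 1), (8, 1), (9, 1), (15, 1), (18, 1), (24, 1), (25, 1), (27, 1), (30, 1), (31, 1), (32, 1), (33, 1), (35, 1)],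
    [(0, 1), (1, 1), (2, 1), (9, 1), (16, 1), (31, 1), (33, 1)],
    [(0, 1), (1, 1), (2, 1), (9, 1), (17, 1), (19, 1), (32, 1)],
    [(7, 1), (8, 1), (15, 1), (16, 1), (18, 1), (27, 1), (30, 1), (31, 1)],
    [(0, 1), (1, 1), (2, 1), (7, 1), (8, 1), (15, 1), (16, 1), (18, 1), (19, 1), (27, 1), (30, 1), (31, 1), (33, 1)],
    [(7, 1), (8, 1), (15, 1), (16, 1), (24, 1), (25, 1), (27, 1), (30, 1), (32, 1), (33, 1), (35, 1)],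
    [(0, 1), (1, 1), (2, 1), (7, 1), (8, 1), (9, 1), (15, 1), (18, 1), (19, 1), (24, 1), (25, 1), (26, 1), (30, 1), (31, 1), (32, 1), (35, 1)],
    [(7, 1), (8, 1), (10, 1), (15, 1), (16, 1), (19, 1), (24, 1), (25, 1), (27, 1), (30, 1), (32, 1), (35, 1)],
    [(19, 1), (27, 1), (33, 1)],
    [(27, 1), (33, 1)],
    [(3, 1), (5, 1), (8, 1), (9, 1), (10, 1), (14, 1), (15, 1), (16, 1), (17, 1), (19, 1), (24, 1), (25, 1), (32, 1), (34, 1), (35, 1)],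
    [(19, 1), (33, 1)]]

/-- certificate -/
def cert2 : Cert (List ℕ) :=
  ⟨10, sig2, rules2, conjs2, rows2, lam2, combos2⟩

end CfsgLib.KnownB.Mult.He
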