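import Cfsg.Agent.Lib.KnownB.Mult.Main

/-!
Certificate at `3` for the multiplier of the Held group (generated data).
-/

set_option autoImplicit false
set_option maxRecDepth 100000

namespace CfsgLib.KnownB.Mult.He

/-- generator words -/
def sig3 : List (List ℕ) :=
  [[2, 1, 6, 3, 2, 1, 5, 3, 2, 6, 3, 2, 5, 4, 3, 2, 3, 1, 2, 3, 5, 4, 2, 3, 2, 3, 4],
    [2, 1, 6, 3, 5, 6, 3, 2, 4, 3, 2, 1, 3, 6, 3, 2, 3, 5, 2, 3, 2, 3, 1, 2, 3, 6, 2],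
    [3, 6, 5, 3, 2, 1, 0, 4, 3, 6, 3, 4, 2, 3, 6, 2, 3, 4, 1, 2, 3, 5, 6, 3]]

/-- power and commutation rules -/
def rules3 : RuleList :=
  [([0, 0, 0], []),
    ([1, 1, 1], []),
    ([2, 2, 2], []),
    ([1, 0], [0, 1, 2]),
    ([2, 0], [0, 2]),
    ([2, 1], [1, 2])]

/-- conjugators -/
def conjs3 : List (List ℕ × List ℕ × List ℕ) :=
  [([2, 3, 2, 1, 0, 3, 5, 3, 2, 3, 2, 1, 4, 3, 6, 3, 2, 3, 2, 3, 5, 1, 2, 3, 6, 2, 0], [2], [2]),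
    ([2, 3, 2, 1, 0, 3, 5, 3, 2, 3, 2, 1, 4, 3, 6, 3, 2, 3, 2, 3, 5, 1, 2, 3, 6, 2, 0], [0, 0, 1, 1, 2, 2], [0, 0, 1, 2]),
    ([0, 1, 2, 3, 2, 1, 5, 3, 2, 1, 0, 6, 3, 2, 1, 5, 3, 2, 3, 6, 3, 4, 1, 2, 3, 2, 3, 5, 6, 2, 1], [2], [2]),
    ([0, 1, 2, 3, 2, 1, 5, 3, 2, 1, 0, 6, 3, 2, 1, 5, 3, 2, 3, 6, 3, 4, 1, 2, 3, 2, 3, 5, 6, 2, 1], [0, 0, 1, 1, 2, 2], [0, 1, 1, 2, 2])]

/-- rows -/
def rows3 : List (Spec × List ℕ) :=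
  [(.ovl [1, 1] 3 [], [0, 0, 2, 0, 0, 0]),
    (.cnj 0 [1, 1, 1] [], [0, 2, 2, 0, 2, 0, 0, 0]),
    (.cnj 0 [1, 0] [0, 1], [0, 0, 0, 0, 0, 1, 0, 0]),
    (.cnj 2 [3, 3, 3] [], [2, 0, 2, 0, 0, 1, 0, 0, 0, 0]),
    (.cnj 2 [3, 2] [2, 3], [0, 0, 0, 0, 1, 0, 0, 0, 0, 0])]

/-- shifts -/
def lam3 : List (List ℕ) :=
  [[],
    [],
    [0, 0, 0, 1]]

/-- combinations -/
def combos3 : List (List (ℕ × ℕ)) :=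
  [[(0, 2), (2, 2), (3, 1)],
    [(0, 2), (1, 1), (4, 1)],
    [(0, 1)],
    [],
    [(4, 2)],
    [(2, 2)]]

/-- certificate -/
def cert3 : Cert (List ℕ) :=
  ⟨3, sig3, rules3, conjs3, rows3, lam3, combos3⟩

end CfsgLib.KnownB.Mult.He
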