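import Cfsg.Agent.Lib.KnownB.Mult.Main

/-!
Certificate at `5` for the multiplier of the Held group (generated data).
-/

set_option autoImplicit false
set_option maxRecDepth 100000

namespace CfsgLib.KnownB.Mult.He

/-- generator words -/
def sig5 : List (List ℕ) :=
  [[1, 4, 6, 3, 2, 1, 3, 2, 1, 3, 5, 3, 2, 3, 5, 1, 2, 3, 0, 1, 2, 3, 1, 2, 3, 4],
    [0, 2, 6, 3, 2, 1, 3, 2, 4, 3, 2, 3, 5, 2, 3, 4, 1, 2, 3, 2, 3, 1, 2, 3, 2]]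

/-- power and commutation rules -/
def rules5 : RuleList :=
  [([0, 0, 0, 0, 0], []),
    ([1, 1, 1, 1, 1], []),
    ([1, 0], [0, 1])]

/-- conjugators -/
def conjs5 : List (List ℕ × List ℕ × List ℕ) :=
  [([6, 3, 2, 3, 2, 1, 3, 2, 3, 6, 3, 2, 3, 5, 1, 2, 3, 4, 2, 3, 6, 0, 1, 2, 3, 1], [0, 0, 0, 0, 1, 1, 1, 1], [0, 1]),
    ([6, 3, 2, 3, 2, 1, 3, 2, 3, 6, 3, 2, 3, 5, 1, 2, 3, 4, 2, 3, 6, 0, 1, 2, 3, 1], [0, 1, 1], [0, 1, 1]),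
    ([0, 1, 6, 3, 2, 3, 2, 1, 3, 2, 4, 6, 3, 2, 3, 5, 6, 3, 1, 2, 3, 5, 4, 3, 2, 1], [0, 0, 0, 0, 1, 1, 1, 1], [0, 0, 0, 0, 1, 1, 1, 1]),
    ([0, 1, 6, 3, 2, 3, 2, 1, 3, 2, 4, 6, 3, 2, 3, 5, 6, 3, 1, 2, 3, 5, 4, 3, 2, 1], [0, 1, 1], [0, 0, 0, 0, 1, 1, 1])]

/-- rows -/
def rows5 : List (Spec × List ℕ) :=
  [(.cnj 0 [0, 0, 0, 0, 0] [], [2, 2, 0, 0]),
    (.cnj 0 [1, 0] [0, 1], [0, 0, 2, 0, 0]),
    (.cnj 2 [3, 3, 3, 3, 3] [], [3, 1, 0, 0, 0, 0, 0])]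

/-- shifts -/
def lam5 : List (List ℕ) :=
  [[],
    []]

/-- combinations -/
def combos5 : List (List (ℕ × ℕ)) :=
  [[(0, 4), (2, 2)],
    [(0, 3), (2, 3)],
    [(1, 2)]]

/-- certificate -/
def cert5 : Cert (List ℕ) :=
  ⟨2, sig5, rules5, conjs5, rows5, lam5, combos5⟩

end CfsgLib.KnownB.Mult.He
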