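import Cfsg.Agent.Lib.KnownB.Mult.Main

/-!
Certificate at `7` for the multiplier of the Held group (generated data).
-/

set_option autoImplicit false
set_option maxRecDepth 100000

namespace CfsgLib.KnownB.Mult.He

/-- generator words -/
def sig7 : List (List ℕ) :=
  [[1, 4, 3, 6, 5, 3, 2, 6, 3, 2, 3, 1, 2, 3, 4, 2, 3, 5, 1, 2, 3, 2, 1, 0],
    [6, 5, 3, 2, 6, 3, 5, 6, 3, 2, 1, 3, 2, 3, 6, 5, 3, 2, 3, 6, 1, 2, 3, 5, 6, 3, 5, 6],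
    [0, 1, 2, 3, 6, 3, 2, 1, 3, 2, 1, 4, 5, 3, 6, 2, 3, 2, 3, 6, 1, 2, 3, 5, 6, 3, 4]]

/-- power and commutation rules -/
def rules7 : RuleList :=
  [([0, 0, 0, 0, 0, 0, 0], []),
    ([1, 1, 1, 1, 1, 1, 1], []),
    ([2, 2, 2, 2, 2, 2, 2], []),
    ([1, 0], [0, 1, 2, 2, 2]),
    ([2, 0], [0, 2]),
    ([2, 1], [1, 2])]

/-- conjugators -/
def conjs7 : List (List ℕ × List ℕ × List ℕ) :=
  [([1, 2, 3, 2, 4, 5, 3, 2, 6, 3, 2, 3, 1, 2, 3, 5, 6, 3, 2, 3, 5, 3, 1, 0], [0, 0, 2, 2], [0]),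
    ([1, 2, 3, 2, 4, 5, 3, 2, 6, 3, 2, 3, 1, 2, 3, 5, 6, 3, 2, 3, 5, 3, 1, 0], [0, 0, 0, 0, 1, 1, 1, 1, 1, 2, 2, 2, 2, 2], [0, 1, 1, 1]),
    ([1, 2, 3, 2, 4, 5, 3, 2, 6, 3, 2, 3, 1, 2, 3, 5, 6, 3, 2, 3, 5, 3, 1, 0], [2, 2, 2, 2, 2, 2], [2, 2, 2, 2, 2, 2])]

/-- rows -/
def rows7 : List (Spec × List ℕ) :=
  [(.ovl [1, 1, 1, 1, 1, 1] 3 [], [0, 0, 4, 0, 0, 0]),
    (.cnj 0 [0, 0, 0, 0, 0, 0, 0] [], [6, 0, 5, 0, 0, 0, 0]),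
    (.cnj 0 [1, 1, 1, 1, 1, 1, 1] [], [4, 5, 3, 0, 0, 0, 0, 0]),
    (.cnj 0 [1, 0] [0, 1, 2, 2, 2, 2, 2], [0, 0, 4, 0, 4, 1, 0, 0, 2]),
    (.cnj 0 [2, 0] [0, 2], [0, 0, 0, 0, 1, 0, 0, 0, 0]),
    (.cnj 0 [2, 1] [1, 2], [0, 0, 0, 0, 3, 2, 0, 0, 0])]

/-- shifts -/
def lam7 : List (List ℕ) :=
  [[],
    [],
    [0, 0, 0, 5]]

/-- combinations -/
def combos7 : List (List (ℕ × ℕ)) :=
  [[(0, 4), (1, 1)],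
    [(0, 5), (1, 2), (2, 4)],
    [(0, 5)],
    [],
    [(4, 6)],
    [(4, 5), (5, 3)]]

/-- certificate -/
def cert7 : Cert (List ℕ) :=
  ⟨3, sig7, rules7, conjs7, rows7, lam7, combos7⟩

end CfsgLib.KnownB.Mult.He
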