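import Cfsg.Agent.Lib.KnownB.Mult.He.Rep
import Cfsg.Agent.Lib.KnownB.Mult.He.Data2
import Cfsg.Agent.Lib.KnownB.Mult.Chunks

/-!
Row checks (part 3) of the certificate at `2` for the multiplier of the Held group.
-/

set_option autoImplicit false
set_option maxRecDepth 100000
set_option Elab.async false

namespace CfsgLib.KnownB.Mult.He

theorem cert2_rows3 : (piece cert2.rows 7 3).all (cert2.rowF code 2) = true := by decide +kernel

end CfsgLib.KnownB.Mult.He
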