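import Cfsg.Agent.Lib.KnownB.Mult.He.Rep
import Cfsg.Agent.Lib.KnownB.Mult.He.P2Indep
import Cfsg.Agent.Lib.KnownB.Mult.He.P2Rows0
import Cfsg.Agent.Lib.KnownB.Mult.He.P2Rows1
import Cfsg.Agent.Lib.KnownB.Mult.He.P2Rows2
import Cfsg.Agent.Lib.KnownB.Mult.He.P2Rows3
import Cfsg.Agent.Lib.KnownB.Mult.He.P2Rows4
import Cfsg.Agent.Lib.KnownB.Mult.He.P2Rows5
import Cfsg.Agent.Lib.KnownB.Mult.He.P2Rows6
import Cfsg.Agent.Lib.KnownB.Mult.He.P2Rows7

/-!
Checks of the certificate at `2` for the multiplier of the Held group.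
-/

set_option autoImplicit false
set_option maxRecDepth 100000
set_option Elab.async false

namespace CfsgLib.KnownB.Mult.He

theorem cert2_gen : cert2.genOK code = true := by decide +kernel
theorem cert2_rel : cert2.relOK code = true := by decide +kernel
theorem cert2_pc : cert2.pcOK 2 = true := by decide +kernel
theorem cert2_rows : cert2.rowsOK code 2 = true := by
  refine Cert.rowsOK_of code cert2 2 (all_of_pieces _ 7 8 _ (fun i hi => ?_) (by decide +kernel))
  interval_cases i
  exacts [cert2_rows0, cert2_rows1, cert2_rows2, cert2_rows3, cert2_rows4, cert2_rows5, cert2_rows6,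
    cert2_rows7]
theorem cert2_target : cert2.targetOK 2 = true := by decide +kernel

theorem cert2_valid : cert2.Valid code 2 :=
  ⟨cert2_gen, cert2_rel, cert2_pc, cert2_indep, cert2_rows, cert2_target⟩

end CfsgLib.KnownB.Mult.He
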