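import Cfsg.Agent.Lib.KnownB.Mult.He.Rep
import Cfsg.Agent.Lib.KnownB.Mult.He.Data3

/-!
Checks of the certificate at `3` for the multiplier of the Held group.
-/

set_option autoImplicit false
set_option maxRecDepth 100000
set_option Elab.async false

namespace CfsgLib.KnownB.Mult.He

theorem cert3_gen : cert3.genOK code = true := by decide +kernel
theorem cert3_rel : cert3.relOK code = true := by decide +kernel
theorem cert3_pc : cert3.pcOK 3 = true := by decide +kernel
theorem cert3_indep : cert3.indepOK code 3 = true := by decide +kernel
theorem cert3_rows : cert3.rowsOK code 3 = true := by decide +kernel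
theorem cert3_target : cert3.targetOK 3 = true := by decide +kernel

theorem cert3_valid : cert3.Valid code 3 :=
  ⟨cert3_gen, cert3_rel, cert3_pc, cert3_indep, cert3_rows, cert3_target⟩

end CfsgLib.KnownB.Mult.He
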