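import Cfsg.Agent.Lib.KnownB.Mult.He.Rep
import Cfsg.Agent.Lib.KnownB.Mult.He.Data5

/-!
Checks of the certificate at `5` for the multiplier of the Held group.
-/

set_option autoImplicit false
set_option maxRecDepth 100000
set_option Elab.async false

namespace CfsgLib.KnownB.Mult.He

theorem cert5_gen : cert5.genOK code = true := by decide +kernel
theorem cert5_rel : cert5.relOK code = true := by decide +kernel
theorem cert5_pc : cert5.pcOK 5 = true := by decide +kernel
theorem cert5_indep : cert5.indepOK code 5 = true := by decide +kernel
theorem cert5_rows : cert5.rowsOK code 5 = true := by decide +kernel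
theorem cert5_target : cert5.targetOK 5 = true := by decide +kernel

theorem cert5_valid : cert5.Valid code 5 :=
  ⟨cert5_gen, cert5_rel, cert5_pc, cert5_indep, cert5_rows, cert5_target⟩

end CfsgLib.KnownB.Mult.He
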