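import Cfsg.Agent.Lib.KnownB.Mult.He.Rep
import Cfsg.Agent.Lib.KnownB.Mult.He.Data7

/-!
Checks of the certificate at `7` for the multiplier of the Held group.
-/

set_option autoImplicit false
set_option maxRecDepth 100000
set_option Elab.async false

namespace CfsgLib.KnownB.Mult.He

theorem cert7_gen : cert7.genOK code = true := by decide +kernel
theorem cert7_rel : cert7.relOK code = true := by decide +kernel
theorem cert7_pc : cert7.pcOK 7 = true := by decide +kernel
theorem cert7_indep : cert7.indepOK code 7 = true := by decide +kernel
theorem cert7_rows : cert7.rowsOK code 7 = true := by decide +kernel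
theorem cert7_target : cert7.targetOK 7 = true := by decide +kernel

theorem cert7_valid : cert7.Valid code 7 :=
  ⟨cert7_gen, cert7_rel, cert7_pc, cert7_indep, cert7_rows, cert7_target⟩

end CfsgLib.KnownB.Mult.He
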