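import Cfsg.Agent.Lib.Spor.HeInvol.Centralizer
import Cfsg.Agent.Lib.KnownB.Mult.WordCode
import Cfsg.Agent.Lib.Spor.He.Bounds

/-!
Word codes for the presented Held group.
-/

set_option autoImplicit false

namespace CfsgLib.KnownB.Mult.He

open CfsgLib.PresCert Cfsg.Spor CfsgLib.Spor.HeInvol

/-- the order bound -/
theorem bound : CfsgLib.Spor.HeInvol.Bound := CfsgLib.Spor.He.card_all_le

theorem img_gen (k : ℕ) (hk : k < data.g) (i : Fin data.n) :
    ((π (gen (letter k)) i : Fin data.n) : ℕ) = data.img k i := by
  rw [π_gen, idx_letter k hk]
  exact PermData.genPerm_img invol_ok hk i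

theorem closure_gen : Subgroup.closure {x | ∃ k < data.g, gen (letter k) = x} = ⊤ := by
  rw [eq_top_iff, ← PresentedGroup.closure_range_of, Subgroup.closure_le]
  rintro _ ⟨x, rfl⟩
  exact Subgroup.subset_closure ⟨idx x, by cases x <;> decide, by cases x <;> rfl⟩

theorem natCard : Nat.card Cfsg.Spor.He = 4030387200 := by
  have : Finite Cfsg.Spor.He := finite_of_bound bound
  have h1 : 4030387200 ≤ Nat.card Cfsg.Spor.He :=
    levels_prod ▸ (PermData.le_card (PermData.interp invol_ok) words_ok levels levels_ok).trans
      ((Nat.le_of_dvd Nat.card_pos (Subgroup.card_dvd_of_le grp_le_range)).trans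
        (Nat.card_le_card_of_surjective _ π.rangeRestrict_surjective))
  have h2 := bound.2
  rw [Subgroup.card_top] at h2
  exact le_antisymm h2 h1

/-- the base -/
noncomputable def base : List ℕ := levels.map Level.base

/-- words act on the base -/
noncomputable def wordRep : WordRep data Cfsg.Spor.He base where
  π := π
  gn k := gen (letter k)
  img := img_gen
  bound := by decide +kernel
  triv q hq := by
    have : Finite Cfsg.Spor.He := finite_of_bound bound
    exact base_trivial π (π_injective bound) _ img_gen closure_gen words_ok levels levels_ok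
      (natCard.trans levels_prod.symm) q hq

/-- the code -/
noncomputable abbrev code : Code Cfsg.Spor.He (List ℕ) := wordRep.code

end CfsgLib.KnownB.Mult.He
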